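import Groth.Agent.EtConsAb.PullTriv
import Groth.Prelude.Def_EtRestW

/-!
# Locally constant abelian sheaves via trivialisations
-/

universe u

open CategoryTheory CategoryTheory.Limits AlgebraicGeometry Opposite

namespace Groth.Agent.EtLocConst

open Groth.Agent Groth.Agent.EtaleSite Groth.Agent.EtConsAb

variable {X : Scheme.{u}} {F : EtCoh.Ab X}

/-- Locally constant sheaves have trivialisations near every geometric point. -/
theorem exists_isTriv (hF : EtRest.IsLocallyConstant F) {Ω : Type u} [Field Ω] [IsSepClosed Ω]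
    (ξ : Spec (CommRingCat.of Ω) ⟶ X) :
    ∃ (V : X.Etale) (_ : (Scheme.pointSmallEtale ξ).fiber.obj V) (M : Type (u + 1)) (_ : AddCommGroup M)
      (m : M →+ F.obj.obj (op V)), IsTriv F V M m := by
  obtain ⟨ι, U, hU, hM⟩ := hF
  obtain ⟨i, y, hy⟩ := hU (ξ default)
  obtain ⟨φ, -⟩ := EtaleSite.exists_fiber_point ξ (U i) y hy
  obtain ⟨M, h₁, ⟨e⟩⟩ := hM i
  obtain ⟨m, hm⟩ := exists_isTriv_of_restrIso e
  exact ⟨U i, φ, M, h₁, m, hm⟩

/-- A sheaf with trivialisations near every geometric point is locally constant. -/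
theorem isLC_of_isTriv
    (h : ∀ (Ω : Type u) [Field Ω] [IsSepClosed Ω] (ξ : Spec (CommRingCat.of Ω) ⟶ X),
      ∃ (V : X.Etale) (_ : (Scheme.pointSmallEtale ξ).fiber.obj V) (M : Type (u + 1)) (_ : AddCommGroup M)
        (m : M →+ F.obj.obj (op V)), IsTriv F V M m) :
    EtRest.IsLocallyConstant F := by
  refine exists_covers_of_forall_geomPoint
    (fun V => ∃ (M : Type (u + 1)) (_ : AddCommGroup M),
    Nonempty (EtCoh.restr F V ≅
      (constantSheaf (X.smallEtaleTopology.over V) (AddCommGrpCat.{u + 1})).obj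
        (AddCommGrpCat.of M)))
    fun Ω _ _ ξ => ?_
  obtain ⟨V, φ, M, h₁, m, hm⟩ := h Ω ξ
  exact ⟨V, φ, M, h₁, ⟨hm.restrIso⟩⟩

/-- Inverse images of locally constant sheaves are locally constant. -/
theorem isLC_pull {Y : Scheme.{u}} (f : X ⟶ Y) {G : EtCoh.Ab Y} (hG : EtRest.IsLocallyConstant G) :
    EtRest.IsLocallyConstant ((EtCoh.pull f).obj G) := by
  refine isLC_of_isTriv fun Ω _ _ ξ => ?_
  obtain ⟨V, φ, M, h₁, m, hm⟩ := exists_isTriv hG (ξ ≫ f)
  exact ⟨(EtCoh.bc f).obj V, EtaleSite.fiberBcEquiv f ξ V φ, M, h₁, _, hm.pull f⟩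

/-- A map from a finite locally constant to a locally constant sheaf is locally given by a map of
groups. -/
theorem exists_hom_covers {G : EtCoh.Ab X} (a : F ⟶ G) (hF : EtCoh.IsFiniteLocallyConstant F)
    (hG : EtRest.IsLocallyConstant G) :
    ∃ (ι : Type u) (U : ι → X.Etale), EtCoh.Covers U ∧ ∀ i, ∃ (M N : Type (u + 1)) (_ : AddCommGroup M) (_ : AddCommGroup N)
      (h : M →+ N)
      (α : EtCoh.restr F (U i) ≅ (constantSheaf (X.smallEtaleTopology.over (U i)) AddCommGrpCat.{u + 1}).obj (AddCommGrpCat.of M))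
      (β : EtCoh.restr G (U i) ≅ (constantSheaf (X.smallEtaleTopology.over (U i)) AddCommGrpCat.{u + 1}).obj (AddCommGrpCat.of N)),
      (X.smallEtaleTopology.overPullback AddCommGrpCat.{u + 1} (U i)).map a ≫ β.hom = α.hom ≫ (constantSheaf (X.smallEtaleTopology.over (U i)) AddCommGrpCat.{u + 1}).map (AddCommGrpCat.ofHom h) := by
  refine exists_covers_of_forall_geomPoint (fun W => ∃ (M N : Type (u + 1)) (_ : AddCommGroup M) (_ : AddCommGroup N)
      (h : M →+ N)
      (α : EtCoh.restr F W ≅ (constantSheaf (X.smallEtaleTopology.over W) AddCommGrpCat.{u + 1}).obj (AddCommGrpCat.of M))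
      (β : EtCoh.restr G W ≅ (constantSheaf (X.smallEtaleTopology.over W) AddCommGrpCat.{u + 1}).obj (AddCommGrpCat.of N)),
      (X.smallEtaleTopology.overPullback AddCommGrpCat.{u + 1} W).map a ≫ β.hom = α.hom ≫ (constantSheaf (X.smallEtaleTopology.over W) AddCommGrpCat.{u + 1}).map (AddCommGrpCat.ofHom h))
    fun Ω _ _ ξ => ?_
  obtain ⟨U, φ, M, _, _, m, hm⟩ := EtConsAb.exists_isTriv hF ξ
  obtain ⟨V, ψ, N, _, n, hn⟩ := exists_isTriv hG ξ
  obtain ⟨W, w, m', n', h, hm', hn', hh⟩ := exists_linearMap a hm hn φ ψ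
  exact ⟨W, w, M, N, _, _, h, hm'.restrIso, hn'.restrIso, restrIso_comm a hm' hn' h hh⟩

/-- On a connected scheme a finite locally constant sheaf has a single value group. -/
theorem exists_single_group [ConnectedSpace X] (hF : EtCoh.IsFiniteLocallyConstant F) :
    ∃ (M : Type) (_ : AddCommGroup M) (_ : Finite M) (ι : Type u) (U : ι → X.Etale), EtCoh.Covers U ∧
      ∀ i, Nonempty (EtCoh.restr F (U i) ≅
        (constantSheaf (X.smallEtaleTopology.over (U i)) AddCommGrpCat.{u + 1}).obj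
          (AddCommGrpCat.of (ULift.{u + 1} M))) := by
  obtain ⟨ι, U, hU, hM⟩ := hF
  choose M h₁ h₂ e using hM
  have heq : ∀ i j (a : (U i).left) (b : (U j).left), (U i).hom.base a = (U j).hom.base b →
      Nonempty (M i ≃+ M j) := by
    intro i j a b hab
    let ξ := geomPointAt X ((U i).hom.base a)
    obtain ⟨φ, -⟩ := EtaleSite.exists_fiber_point ξ (U i) a (geomPointAt_apply X _ _).symm
    obtain ⟨ψ, -⟩ := EtaleSite.exists_fiber_point ξ (U j) b (hab.symm.trans (geomPointAt_apply X _ _).symm)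
    obtain ⟨m, hm⟩ := exists_isTriv_of_restrIso (e i).some
    obtain ⟨n, hn⟩ := exists_isTriv_of_restrIso (e j).some
    exact ⟨AddEquiv.ulift.symm.trans (((hm.stalkEquiv φ).trans (hn.stalkEquiv ψ).symm).trans AddEquiv.ulift)⟩
  obtain ⟨x₀⟩ := (inferInstance : Nonempty X)
  obtain ⟨i₀, y₀, hy₀⟩ := hU x₀
  let A : Set X := ⋃ i : {i // Nonempty (M i ≃+ M i₀)}, Set.range (U i.1).hom.base
  have hopen : ∀ i, IsOpen (Set.range (U i).hom.base) := fun i =>
    have : Etale (U i).hom := (U i).prop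
    (U i).hom.isOpenMap.isOpen_range
  have hA : IsClopen A := by
    refine ⟨⟨?_⟩, isOpen_iUnion fun i => hopen _⟩
    have : Aᶜ = ⋃ i : {i // ¬ Nonempty (M i ≃+ M i₀)}, Set.range (U i.1).hom.base := by
      ext x
      constructor
      · intro hx
        obtain ⟨i, y, hy⟩ := hU x
        refine Set.mem_iUnion.2 ⟨⟨i, fun h => hx (Set.mem_iUnion.2 ⟨⟨i, h⟩, y, hy⟩)⟩, y, hy⟩
      · intro hx hx'
        obtain ⟨⟨i, hi⟩, a, ha⟩ := Set.mem_iUnion.1 hx
        obtain ⟨⟨j, ⟨e'⟩⟩, b, hb⟩ := Set.mem_iUnion.1 hx'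
        obtain ⟨e''⟩ := heq i j a b (ha.trans hb.symm)
        exact hi ⟨e''.trans e'⟩
    rw [this]
    exact isOpen_iUnion fun i => hopen _
  have hAu : A = Set.univ := hA.eq_univ ⟨x₀, Set.mem_iUnion.2 ⟨⟨i₀, ⟨AddEquiv.refl _⟩⟩, y₀, hy₀⟩⟩
  refine ⟨M i₀, h₁ i₀, h₂ i₀, {i // Nonempty (M i ≃+ M i₀)}, fun i => U i.1, fun x => ?_, fun i => ?_⟩
  · obtain ⟨i, y, hy⟩ := Set.mem_iUnion.1 (hAu.symm ▸ Set.mem_univ x : x ∈ A)
    exact ⟨i, y, hy⟩
  · obtain ⟨e'⟩ := i.2
    exact ⟨(e i.1).some ≪≫ (constantSheaf (X.smallEtaleTopology.over (U i.1)) AddCommGrpCat.{u + 1}).mapIso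
      (AddEquiv.toAddCommGrpIso (AddEquiv.ulift.trans (e'.trans AddEquiv.ulift.symm)))⟩

end Groth.Agent.EtLocConst
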